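import Mathlib

/-!
# Convolution calculus for algebra homs out of a commutative Hopf algebra

For a commutative Hopf algebra `A` over `k` and a commutative `k`-algebra `C`, the set of `k`-algebra
homs `A →ₐ[k] C` is a group under convolution (the group of `C`-points).  Mathlib has this on the type
synonym `WithConv`; here are plain wrappers `cmul`, `cinv`, `cone` with the functoriality lemmas.
-/

namespace Groth.Agent.H9.FF

open TensorProduct WithConv

namespace Conv

variable {k : Type*} {A : Type*} {B : Type*} {C : Type*} {D : Type*}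
  [CommRing k] [CommRing A] [HopfAlgebra k A] [CommRing B] [HopfAlgebra k B]
  [CommRing C] [Algebra k C] [CommRing D] [Algebra k D]

/-- convolution product of points -/
noncomputable def cmul (f g : A →ₐ[k] C) : A →ₐ[k] C := (toConv f * toConv g).ofConv

/-- inverse point -/
noncomputable def cinv (f : A →ₐ[k] C) : A →ₐ[k] C := f.comp (HopfAlgebra.antipodeAlgHom k A)

/-- unit point -/
noncomputable def cone : A →ₐ[k] C := (1 : WithConv (A →ₐ[k] C)).ofConv

lemma cmul_assoc (f g h : A →ₐ[k] C) : cmul (cmul f g) h = cmul f (cmul g h) := by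
  unfold cmul
  rw [toConv_ofConv, toConv_ofConv, mul_assoc]

lemma cone_cmul (f : A →ₐ[k] C) : cmul cone f = f := by
  unfold cmul cone
  rw [toConv_ofConv, one_mul]

lemma cmul_cone (f : A →ₐ[k] C) : cmul f cone = f := by
  unfold cmul cone
  rw [toConv_ofConv, mul_one]

lemma comp_cmul (h : C →ₐ[k] D) (f g : A →ₐ[k] C) :
    h.comp (cmul f g) = cmul (h.comp f) (h.comp g) := by
  unfold cmul
  rw [AlgHom.comp_convMul_distrib]

lemma comp_cinv (h : C →ₐ[k] D) (f : A →ₐ[k] C) : h.comp (cinv f) = cinv (h.comp f) := by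
  unfold cinv
  rw [AlgHom.comp_assoc]

lemma comp_cone (h : C →ₐ[k] D) : h.comp (cone : A →ₐ[k] C) = cone := by
  ext a
  simp [cone]

lemma antipode_cmul_id :
    cmul (HopfAlgebra.antipodeAlgHom k A) (AlgHom.id k A) = cone := by
  unfold cmul cone
  rw [AlgHom.antipode_id_cancel]

lemma id_cmul_antipode :
    cmul (AlgHom.id k A) (HopfAlgebra.antipodeAlgHom k A) = cone := by
  unfold cmul cone
  have := mul_inv_cancel (toConv (AlgHom.id k A))
  rw [← this]
  rfl

lemma cinv_cmul (f : A →ₐ[k] C) : cmul (cinv f) f = cone := by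
  have h := comp_cmul f (HopfAlgebra.antipodeAlgHom k A) (AlgHom.id k A)
  rw [antipode_cmul_id, comp_cone, AlgHom.comp_id] at h
  exact h.symm

lemma cmul_cinv (f : A →ₐ[k] C) : cmul f (cinv f) = cone := by
  have h := comp_cmul f (AlgHom.id k A) (HopfAlgebra.antipodeAlgHom k A)
  rw [id_cmul_antipode, comp_cone, AlgHom.comp_id] at h
  exact h.symm

lemma cinv_cmul_cancel_left (f g : A →ₐ[k] C) : cmul (cinv f) (cmul f g) = g := by
  rw [← cmul_assoc, cinv_cmul, cone_cmul]

lemma cmul_cinv_cancel_left (f g : A →ₐ[k] C) : cmul f (cmul (cinv f) g) = g := by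
  rw [← cmul_assoc, cmul_cinv, cone_cmul]

lemma cmul_cinv_cancel_right (f g : A →ₐ[k] C) : cmul (cmul f g) (cinv g) = f := by
  rw [cmul_assoc, cmul_cinv, cmul_cone]

lemma cinv_cmul_cancel_right (f g : A →ₐ[k] C) : cmul (cmul f (cinv g)) g = f := by
  rw [cmul_assoc, cinv_cmul, cmul_cone]

lemma cone_apply (a : A) : (cone : A →ₐ[k] C) a = algebraMap k C (Coalgebra.counit a) := rfl

lemma cmul_apply (f g : A →ₐ[k] C) (a : A) :
    cmul f g a = Algebra.TensorProduct.lift f g (fun _ _ => .all _ _) (Coalgebra.comul a) :=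
  AlgHom.convMul_apply (toConv f) (toConv g) a

lemma cmul_comp_bialgHom (f g : A →ₐ[k] C) (φ : B →ₐc[k] A) :
    (cmul f g).comp (φ : B →ₐ[k] A) = cmul (f.comp φ) (g.comp φ) := by
  unfold cmul
  rw [AlgHom.convMul_comp_bialgHom_distrib]

lemma cone_comp_bialgHom (φ : B →ₐc[k] A) :
    (cone : A →ₐ[k] C).comp (φ : B →ₐ[k] A) = cone := by
  ext b
  simp [cone]

lemma cinv_comp_bialgHom (f : A →ₐ[k] C) (φ : B →ₐc[k] A) :
    (cinv f).comp (φ : B →ₐ[k] A) = cinv (f.comp φ) := by
  have h1 : cmul ((cinv f).comp (φ : B →ₐ[k] A)) (f.comp (φ : B →ₐ[k] A)) = cone := by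
    rw [← cmul_comp_bialgHom, cinv_cmul, cone_comp_bialgHom]
  calc (cinv f).comp (φ : B →ₐ[k] A)
      = cmul (cmul ((cinv f).comp (φ : B →ₐ[k] A)) (f.comp (φ : B →ₐ[k] A)))
          (cinv (f.comp (φ : B →ₐ[k] A))) := by rw [cmul_cinv_cancel_right]
    _ = cinv (f.comp φ) := by rw [h1, cone_cmul]

/-- a bialgebra map commutes with antipodes -/
lemma bialgHom_antipode (φ : B →ₐc[k] A) (b : B) :
    φ (HopfAlgebra.antipode k b) = HopfAlgebra.antipode k (φ b) := by
  have := cinv_comp_bialgHom (AlgHom.id k A) φ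
  have h2 := congrArg (fun F : B →ₐ[k] A => F b) this
  simpa [cinv] using h2.symm

variable (k A) in
lemma includeLeft_cmul_includeRight :
    cmul (Algebra.TensorProduct.includeLeft : A →ₐ[k] A ⊗[k] A)
      (Algebra.TensorProduct.includeRight : A →ₐ[k] A ⊗[k] A) = Bialgebra.comulAlgHom k A := by
  ext a
  rw [cmul_apply]
  have : (Algebra.TensorProduct.lift (Algebra.TensorProduct.includeLeft : A →ₐ[k] A ⊗[k] A)
      (Algebra.TensorProduct.includeRight : A →ₐ[k] A ⊗[k] A) (fun _ _ => .all _ _)) =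
      AlgHom.id k (A ⊗[k] A) := by
    ext <;> simp
  rw [this]
  rfl

end Conv

end Groth.Agent.H9.FF
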