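import Mathlib
import Groth.Agent.Lib.Helper9.FF.Conv

/-!
# Sub-Hopf-algebras as Hopf algebras

Over a field `k`, a subalgebra `B` of a commutative Hopf algebra `A` stable under comultiplication and
antipode (`IsHopfSub`) carries a Hopf algebra structure for which the inclusion is a bialgebra map.
-/

namespace Groth.Agent.H9.FF

open TensorProduct

universe u v

set_option linter.style.haveILetI false

section Transfer

variable {k : Type u} [Field k] {V : Type v} [AddCommGroup V] [Module k V] {A : Type*}
  [AddCommGroup A] [Module k A] [Coalgebra k A]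

/-- coalgebra structure transferred along an injective linear map (over a field) -/
@[reducible] noncomputable def coalgebraOfInjective (i : V →ₗ[k] A) (hi : Function.Injective i)
    (δ : V →ₗ[k] V ⊗[k] V)
    (hδ : TensorProduct.map i i ∘ₗ δ = Coalgebra.comul ∘ₗ i) : Coalgebra k V where
  comul := δ
  counit := Coalgebra.counit ∘ₗ i
  coassoc := by
    have hinj : Function.Injective (TensorProduct.map i (TensorProduct.map i i)) :=
      map_injective_of_flat_flat _ _ hi (map_injective_of_flat_flat _ _ hi hi)
    have h1 : TensorProduct.map (TensorProduct.map i i) i ∘ₗ δ.rTensor V =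
        (Coalgebra.comul (R := k) (A := A)).rTensor A ∘ₗ TensorProduct.map i i := by
      rw [LinearMap.rTensor, LinearMap.rTensor, ← TensorProduct.map_comp, ← TensorProduct.map_comp,
        hδ, LinearMap.comp_id, LinearMap.id_comp]
    have h2 : TensorProduct.map i (TensorProduct.map i i) ∘ₗ δ.lTensor V =
        (Coalgebra.comul (R := k) (A := A)).lTensor A ∘ₗ TensorProduct.map i i := by
      rw [LinearMap.lTensor, LinearMap.lTensor, ← TensorProduct.map_comp, ← TensorProduct.map_comp,
        hδ, LinearMap.comp_id, LinearMap.id_comp]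
    rw [← LinearMap.cancel_left hinj]
    calc TensorProduct.map i (TensorProduct.map i i) ∘ₗ
          ((TensorProduct.assoc k V V V : _ →ₗ[k] _) ∘ₗ δ.rTensor V ∘ₗ δ)
        = (TensorProduct.map i (TensorProduct.map i i) ∘ₗ
            (TensorProduct.assoc k V V V : _ →ₗ[k] _)) ∘ₗ δ.rTensor V ∘ₗ δ := by
          simp only [LinearMap.comp_assoc]
      _ = ((TensorProduct.assoc k A A A : _ →ₗ[k] _) ∘ₗ
            TensorProduct.map (TensorProduct.map i i) i) ∘ₗ δ.rTensor V ∘ₗ δ := by
          rw [TensorProduct.map_map_comp_assoc_eq]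
      _ = (TensorProduct.assoc k A A A : _ →ₗ[k] _) ∘ₗ
            ((TensorProduct.map (TensorProduct.map i i) i ∘ₗ δ.rTensor V) ∘ₗ δ) := by
          simp only [LinearMap.comp_assoc]
      _ = (TensorProduct.assoc k A A A : _ →ₗ[k] _) ∘ₗ
            (((Coalgebra.comul (R := k) (A := A)).rTensor A ∘ₗ TensorProduct.map i i) ∘ₗ δ) := by
          rw [h1]
      _ = ((TensorProduct.assoc k A A A : _ →ₗ[k] _) ∘ₗ
            (Coalgebra.comul (R := k) (A := A)).rTensor A ∘ₗ Coalgebra.comul) ∘ₗ i := by
          rw [LinearMap.comp_assoc, hδ]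
          simp only [LinearMap.comp_assoc]
      _ = ((Coalgebra.comul (R := k) (A := A)).lTensor A ∘ₗ Coalgebra.comul) ∘ₗ i := by
          rw [Coalgebra.coassoc]
      _ = ((Coalgebra.comul (R := k) (A := A)).lTensor A ∘ₗ TensorProduct.map i i) ∘ₗ δ := by
          rw [LinearMap.comp_assoc, LinearMap.comp_assoc, hδ]
      _ = TensorProduct.map i (TensorProduct.map i i) ∘ₗ δ.lTensor V ∘ₗ δ := by
          rw [← h2, LinearMap.comp_assoc]
  rTensor_counit_comp_comul := by
    have hinj : Function.Injective (LinearMap.lTensor k i) :=
      Module.Flat.lTensor_preserves_injective_linearMap i hi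
    rw [← LinearMap.cancel_left hinj]
    calc LinearMap.lTensor k i ∘ₗ (LinearMap.rTensor V (Coalgebra.counit ∘ₗ i) ∘ₗ δ)
        = ((Coalgebra.counit (R := k) (A := A)).rTensor A ∘ₗ TensorProduct.map i i) ∘ₗ δ := by
          rw [← LinearMap.comp_assoc]
          congr 1
          rw [LinearMap.lTensor, LinearMap.rTensor, LinearMap.rTensor, ← TensorProduct.map_comp,
            ← TensorProduct.map_comp, LinearMap.id_comp, LinearMap.comp_id, LinearMap.id_comp]
      _ = ((Coalgebra.counit (R := k) (A := A)).rTensor A ∘ₗ Coalgebra.comul) ∘ₗ i := by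
          rw [LinearMap.comp_assoc, hδ, LinearMap.comp_assoc]
      _ = (TensorProduct.mk k k A 1) ∘ₗ i := by rw [Coalgebra.rTensor_counit_comp_comul]
      _ = LinearMap.lTensor k i ∘ₗ TensorProduct.mk k k V 1 := by
          ext v; simp
  lTensor_counit_comp_comul := by
    have hinj : Function.Injective (LinearMap.rTensor k i) :=
      Module.Flat.rTensor_preserves_injective_linearMap i hi
    rw [← LinearMap.cancel_left hinj]
    calc LinearMap.rTensor k i ∘ₗ (LinearMap.lTensor V (Coalgebra.counit ∘ₗ i) ∘ₗ δ)
        = ((Coalgebra.counit (R := k) (A := A)).lTensor A ∘ₗ TensorProduct.map i i) ∘ₗ δ := by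
          rw [← LinearMap.comp_assoc]
          congr 1
          rw [LinearMap.lTensor, LinearMap.rTensor, LinearMap.lTensor, ← TensorProduct.map_comp,
            ← TensorProduct.map_comp, LinearMap.id_comp, LinearMap.comp_id, LinearMap.id_comp]
      _ = ((Coalgebra.counit (R := k) (A := A)).lTensor A ∘ₗ Coalgebra.comul) ∘ₗ i := by
          rw [LinearMap.comp_assoc, hδ, LinearMap.comp_assoc]
      _ = ((TensorProduct.mk k A k).flip 1) ∘ₗ i := by rw [Coalgebra.lTensor_counit_comp_comul]
      _ = LinearMap.rTensor k i ∘ₗ (TensorProduct.mk k V k).flip 1 := by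
          ext v; simp

end Transfer

section HopfSub

variable (k : Type u) [Field k] (A : Type v) [CommRing A] [HopfAlgebra k A]

/-- sub-Hopf-algebra (universe polymorphic version of `SGA3.IsHopfSubalgebra`) -/
structure IsHopfSub (B : Subalgebra k A) : Prop where
  comul_mem : ∀ b ∈ B, Coalgebra.comul (R := k) (A := A) b ∈
    LinearMap.range (TensorProduct.map B.val.toLinearMap B.val.toLinearMap)
  antipode_mem : ∀ b ∈ B, HopfAlgebra.antipode k b ∈ B

variable {k A}
variable {B : Subalgebra k A} (hB : IsHopfSub k A B)

namespace IsHopfSub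

lemma val_injective : Function.Injective B.val.toLinearMap := Subtype.val_injective

lemma map_val_injective :
    Function.Injective (TensorProduct.map B.val.toLinearMap B.val.toLinearMap) :=
  map_injective_of_flat_flat _ _ val_injective val_injective

/-- the comultiplication of a sub-Hopf-algebra -/
noncomputable def comulSub : B →ₗ[k] B ⊗[k] B :=
  (LinearEquiv.ofInjective (TensorProduct.map B.val.toLinearMap B.val.toLinearMap)
      map_val_injective).symm.toLinearMap ∘ₗ
    LinearMap.codRestrict _ (Coalgebra.comul (R := k) (A := A) ∘ₗ B.val.toLinearMap)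
      (fun b => hB.comul_mem b b.2)

lemma map_comulSub (b : B) :
    TensorProduct.map B.val.toLinearMap B.val.toLinearMap (comulSub hB b) =
      Coalgebra.comul (R := k) (A := A) (b : A) := by
  unfold comulSub
  set e := LinearEquiv.ofInjective (TensorProduct.map B.val.toLinearMap B.val.toLinearMap)
      map_val_injective
  set y := LinearMap.codRestrict (LinearMap.range
    (TensorProduct.map B.val.toLinearMap B.val.toLinearMap))
    (Coalgebra.comul (R := k) (A := A) ∘ₗ B.val.toLinearMap) (fun b => hB.comul_mem b b.2) b
  have h1 : e (e.symm y) = y := e.apply_symm_apply y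
  have h2 : ((e (e.symm y) : LinearMap.range
    (TensorProduct.map B.val.toLinearMap B.val.toLinearMap)) : A ⊗[k] A) =
      TensorProduct.map B.val.toLinearMap B.val.toLinearMap (e.symm y) :=
    LinearEquiv.ofInjective_apply _ _
  simp only [LinearMap.coe_comp, LinearEquiv.coe_coe, Function.comp_apply]
  rw [← h2, h1]
  rfl

lemma map_comp_comulSub :
    TensorProduct.map B.val.toLinearMap B.val.toLinearMap ∘ₗ comulSub hB =
      Coalgebra.comul (R := k) (A := A) ∘ₗ B.val.toLinearMap :=
  LinearMap.ext (map_comulSub hB)

/-- the coalgebra structure of a sub-Hopf-algebra -/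
@[reducible] noncomputable def coalgebra : Coalgebra k B :=
  coalgebraOfInjective B.val.toLinearMap val_injective (comulSub hB) (map_comp_comulSub hB)

/-- the bialgebra structure of a sub-Hopf-algebra -/
@[reducible] noncomputable def bialgebra : Bialgebra k B :=
  letI := coalgebra hB
  Bialgebra.mk' k B
    (by
      change Coalgebra.counit (R := k) (A := A) ((1 : B) : A) = 1
      simp)
    (by
      intro a b
      change Coalgebra.counit (R := k) (A := A) ((a * b : B) : A) =
        Coalgebra.counit (R := k) (A := A) (a : A) * Coalgebra.counit (R := k) (A := A) (b : A)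
      simp)
    (by
      apply map_val_injective
      change TensorProduct.map B.val.toLinearMap B.val.toLinearMap (comulSub hB 1) =
        Algebra.TensorProduct.map B.val B.val 1
      rw [map_comulSub, map_one]
      simp)
    (by
      intro a b
      apply map_val_injective
      change TensorProduct.map B.val.toLinearMap B.val.toLinearMap (comulSub hB (a * b)) =
        Algebra.TensorProduct.map B.val B.val (comulSub hB a * comulSub hB b)
      rw [map_comulSub, map_mul]
      change _ = TensorProduct.map B.val.toLinearMap B.val.toLinearMap (comulSub hB a) *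
        TensorProduct.map B.val.toLinearMap B.val.toLinearMap (comulSub hB b)
      rw [map_comulSub, map_comulSub]
      simp)

/-- the antipode of a sub-Hopf-algebra -/
noncomputable def antipodeSub : B →ₗ[k] B :=
  (Subalgebra.toSubmoduleEquiv B).toLinearMap ∘ₗ
    LinearMap.codRestrict (Subalgebra.toSubmodule B)
      (HopfAlgebra.antipode k (A := A) ∘ₗ B.val.toLinearMap) (fun b => hB.antipode_mem b b.2)

lemma val_antipodeSub (b : B) : ((antipodeSub hB b : B) : A) = HopfAlgebra.antipode k (b : A) := rfl

lemma val_comp_antipodeSub :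
    B.val.toLinearMap ∘ₗ antipodeSub hB = HopfAlgebra.antipode k (A := A) ∘ₗ B.val.toLinearMap :=
  LinearMap.ext (val_antipodeSub hB)

lemma val_comp_mul' :
    B.val.toLinearMap ∘ₗ LinearMap.mul' k B =
      LinearMap.mul' k A ∘ₗ TensorProduct.map B.val.toLinearMap B.val.toLinearMap := by
  ext a b
  simp

/-- the Hopf algebra structure of a sub-Hopf-algebra -/
@[reducible] noncomputable def hopfAlgebra : HopfAlgebra k B :=
  letI := bialgebra hB
  { antipode := antipodeSub hB
    mul_antipode_rTensor_comul := by
      rw [← LinearMap.cancel_left (val_injective (B := B))]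
      calc B.val.toLinearMap ∘ₗ (LinearMap.mul' k B ∘ₗ (antipodeSub hB).rTensor B ∘ₗ comulSub hB)
          = (LinearMap.mul' k A ∘ₗ TensorProduct.map B.val.toLinearMap B.val.toLinearMap) ∘ₗ
              ((antipodeSub hB).rTensor B ∘ₗ comulSub hB) := by
            rw [← LinearMap.comp_assoc, val_comp_mul']
        _ = LinearMap.mul' k A ∘ₗ ((HopfAlgebra.antipode k (A := A)).rTensor A ∘ₗ
              TensorProduct.map B.val.toLinearMap B.val.toLinearMap) ∘ₗ comulSub hB := by
            rw [LinearMap.comp_assoc, ← LinearMap.comp_assoc _ ((antipodeSub hB).rTensor B)]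
            congr 2
            rw [LinearMap.rTensor, LinearMap.rTensor, ← TensorProduct.map_comp,
              ← TensorProduct.map_comp, val_comp_antipodeSub, LinearMap.comp_id, LinearMap.id_comp]
        _ = (LinearMap.mul' k A ∘ₗ (HopfAlgebra.antipode k (A := A)).rTensor A ∘ₗ
              Coalgebra.comul) ∘ₗ B.val.toLinearMap := by
            rw [LinearMap.comp_assoc, map_comp_comulSub]
            simp only [LinearMap.comp_assoc]
        _ = (Algebra.linearMap k A ∘ₗ Coalgebra.counit) ∘ₗ B.val.toLinearMap := by
            rw [HopfAlgebra.mul_antipode_rTensor_comul]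
        _ = B.val.toLinearMap ∘ₗ (Algebra.linearMap k B ∘ₗ
              (Coalgebra.counit (R := k) (A := A) ∘ₗ B.val.toLinearMap)) := by
            ext b; simp
    mul_antipode_lTensor_comul := by
      rw [← LinearMap.cancel_left (val_injective (B := B))]
      calc B.val.toLinearMap ∘ₗ (LinearMap.mul' k B ∘ₗ (antipodeSub hB).lTensor B ∘ₗ comulSub hB)
          = (LinearMap.mul' k A ∘ₗ TensorProduct.map B.val.toLinearMap B.val.toLinearMap) ∘ₗ
              ((antipodeSub hB).lTensor B ∘ₗ comulSub hB) := by
            rw [← LinearMap.comp_assoc, val_comp_mul']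
        _ = LinearMap.mul' k A ∘ₗ ((HopfAlgebra.antipode k (A := A)).lTensor A ∘ₗ
              TensorProduct.map B.val.toLinearMap B.val.toLinearMap) ∘ₗ comulSub hB := by
            rw [LinearMap.comp_assoc, ← LinearMap.comp_assoc _ ((antipodeSub hB).lTensor B)]
            congr 2
            rw [LinearMap.lTensor, LinearMap.lTensor, ← TensorProduct.map_comp,
              ← TensorProduct.map_comp, val_comp_antipodeSub, LinearMap.comp_id, LinearMap.id_comp]
        _ = (LinearMap.mul' k A ∘ₗ (HopfAlgebra.antipode k (A := A)).lTensor A ∘ₗ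
              Coalgebra.comul) ∘ₗ B.val.toLinearMap := by
            rw [LinearMap.comp_assoc, map_comp_comulSub]
            simp only [LinearMap.comp_assoc]
        _ = (Algebra.linearMap k A ∘ₗ Coalgebra.counit) ∘ₗ B.val.toLinearMap := by
            rw [HopfAlgebra.mul_antipode_lTensor_comul]
        _ = B.val.toLinearMap ∘ₗ (Algebra.linearMap k B ∘ₗ
              (Coalgebra.counit (R := k) (A := A) ∘ₗ B.val.toLinearMap)) := by
            ext b; simp }

/-- the inclusion of a sub-Hopf-algebra as a bialgebra map -/
noncomputable def incl : letI := hopfAlgebra hB; B →ₐc[k] A :=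
  letI := hopfAlgebra hB
  BialgHom.ofAlgHom B.val
    (by ext b; rfl)
    (by
      ext b
      exact map_comulSub hB b)

lemma incl_apply (b : B) : letI := hopfAlgebra hB; incl hB b = (b : A) := rfl

end IsHopfSub

end HopfSub

end Groth.Agent.H9.FF
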