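import Mathlib
import Groth.Agent.Lib.Helper9.FF.HopfSub
import Groth.Agent.Lib.Helper9.ComodCosemi
import Groth.Agent.Lib.Helper9.HopfAntipode

/-!
# Finitely generated sub-Hopf-algebras

Every finite subset of a commutative Hopf algebra over a field lies in a finitely generated
sub-Hopf-algebra.
-/

namespace Groth.Agent.H9.FF

open TensorProduct Groth.Agent.H9.Comod

universe u v

set_option linter.style.haveILetI false

variable {k : Type u} [Field k] {A : Type v} [CommRing A] [HopfAlgebra k A]

lemma range_map_le {D : Submodule k A} {B : Subalgebra k A} (h : D ≤ Subalgebra.toSubmodule B) :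
    LinearMap.range (TensorProduct.map D.subtype D.subtype) ≤
      LinearMap.range (TensorProduct.map B.val.toLinearMap B.val.toLinearMap) := by
  let j : D →ₗ[k] B := (Subalgebra.toSubmoduleEquiv B).toLinearMap ∘ₗ Submodule.inclusion h
  have hj : D.subtype = B.val.toLinearMap ∘ₗ j := by
    ext d; rfl
  rw [hj, TensorProduct.map_comp]
  exact LinearMap.range_comp_le_range _ _

theorem exists_fg_isHopfSub (F : Finset A) :
    ∃ B : Subalgebra k A, IsHopfSub k A B ∧ B.FG ∧ (F : Set A) ⊆ (B : Set A) := by
  classical
  let U : Submodule k A := gen A (Submodule.span k (F : Set A))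
  have hU : HopfRep.IsSubcomod (k := k) (A := A) U := isSubcomod_gen _
  have hUfg : U.FG := fg_gen _ (Submodule.fg_span F.finite_toSet)
  have hFU : ∀ x ∈ F, x ∈ U := fun x hx => le_gen _ (Submodule.subset_span hx)
  haveI : Module.Finite k U := Module.Finite.iff_fg.mpr hUfg
  letI cU : HopfRep.Comod k A U := ComodSub.Comod.restr (HopfRep.Comod.regular k A) U hU
  let D : Submodule k A := coeffSpace k A U
  have hD : IsSubcoalg k D := isSubcoalg_coeffSpace
  have hDfg : D.FG := fg_coeffSpace
  have hUD : U ≤ D := le_coeffSpace_restr hU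
  obtain ⟨s, hs⟩ := hDfg
  let S : A →ₗ[k] A := HopfAlgebra.antipode k
  let t : Finset A := s ∪ s.image S
  let B : Subalgebra k A := Algebra.adjoin k (t : Set A)
  have hsB : ∀ x ∈ s, x ∈ B := fun x hx =>
    Algebra.subset_adjoin (by simp [t, hx])
  have hSsB : ∀ x ∈ s, S x ∈ B := fun x hx =>
    Algebra.subset_adjoin (by
      simp only [t, Finset.coe_union, Finset.coe_image, Set.mem_union, Set.mem_image]
      exact Or.inr ⟨x, hx, rfl⟩)
  have hDB : D ≤ Subalgebra.toSubmodule B := by
    rw [← hs, Submodule.span_le]
    intro x hx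
    exact hsB x hx
  have hSDB : D.map S ≤ Subalgebra.toSubmodule B := by
    rw [← hs, Submodule.map_span, Submodule.span_le]
    rintro _ ⟨x, hx, rfl⟩
    exact hSsB x hx
  -- comultiplication
  have hcomul : ∀ b ∈ B, Coalgebra.comul (R := k) (A := A) b ∈
      LinearMap.range (TensorProduct.map B.val.toLinearMap B.val.toLinearMap) := by
    let Rng : Subalgebra k (A ⊗[k] A) := (Algebra.TensorProduct.map B.val B.val).range
    have hRng : ∀ z, z ∈ Rng ↔
        z ∈ LinearMap.range (TensorProduct.map B.val.toLinearMap B.val.toLinearMap) := by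
      intro z
      rfl
    have hle : B ≤ Rng.comap (Bialgebra.comulAlgHom k A) := by
      apply Algebra.adjoin_le
      intro x hx
      rw [SetLike.mem_coe, Subalgebra.mem_comap, hRng]
      simp only [t, Finset.coe_union, Finset.coe_image, Set.mem_union, Set.mem_image] at hx
      rcases hx with hx | ⟨y, hy, rfl⟩
      · exact range_map_le hDB (hD x (hs ▸ Submodule.subset_span hx))
      · change Coalgebra.comul (R := k) (A := A) (HopfAlgebra.antipode k y) ∈ _
        rw [Groth.Agent.H9.Hopf.comul_antipode]
        obtain ⟨z, hz⟩ := hD y (hs ▸ Submodule.subset_span hy)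
        rw [← hz]
        let j : D →ₗ[k] B := (Subalgebra.toSubmoduleEquiv B).toLinearMap ∘ₗ
          LinearMap.codRestrict (Subalgebra.toSubmodule B) (S ∘ₗ D.subtype)
            (fun d => hSDB ⟨d, d.2, rfl⟩)
        have hj : S ∘ₗ D.subtype = B.val.toLinearMap ∘ₗ j := by
          ext d; rfl
        refine ⟨TensorProduct.map j j (TensorProduct.comm k D D z), ?_⟩
        rw [← LinearMap.comp_apply, ← TensorProduct.map_comp, ← hj]
        clear hz
        induction z using TensorProduct.induction_on with
        | zero => simp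
        | tmul a b => rfl
        | add z w hz hw => simp only [map_add, hz, hw]
    intro b hb
    exact (hRng _).mp (hle hb)
  have hanti : ∀ b ∈ B, HopfAlgebra.antipode k b ∈ B := by
    have hle : B ≤ B.comap (HopfAlgebra.antipodeAlgHom k A) := by
      apply Algebra.adjoin_le
      intro x hx
      rw [SetLike.mem_coe, Subalgebra.mem_comap]
      simp only [t, Finset.coe_union, Finset.coe_image, Set.mem_union, Set.mem_image] at hx
      rcases hx with hx | ⟨y, hy, rfl⟩
      · exact hSsB x hx
      · change HopfAlgebra.antipode k (HopfAlgebra.antipode k y) ∈ B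
        rw [Groth.Agent.H9.Hopf.antipode_antipode]
        exact hsB y hy
    intro b hb
    exact hle hb
  refine ⟨B, ⟨hcomul, hanti⟩, ⟨t, rfl⟩, ?_⟩
  intro x hx
  exact hDB (hUD (hFU x hx))

end Groth.Agent.H9.FF
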