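import Mathlib
import Groth.Agent.Lib.Helper9.FF.Conv

/-!
# The Galois isomorphism `A ⊗[B] A ≃ A ⊗[k] (A / B⁺A)`

For a bialgebra map `f : B →ₐc[k] A` of commutative Hopf algebras (with `A` a `B`-algebra through
`f`), the map `a ⊗ a' ↦ a a'₁ ⊗ π(a'₂)` is an `A`-linear bijection.  In particular `A ⊗[B] A` is a
free `A`-module when `k` is a field.
-/

namespace Groth.Agent.H9.FF

open TensorProduct Conv

section Galois

variable {k : Type*} {A : Type*} {B : Type*} [CommRing k] [CommRing A] [HopfAlgebra k A]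
  [CommRing B] [HopfAlgebra k B] [Algebra B A] [IsScalarTower k B A]

variable (k A B) in
/-- the ideal `B⁺A` -/
def augIdeal : Ideal A :=
  (RingHom.ker (Bialgebra.counitAlgHom k B)).map (algebraMap B A)

variable (k A B) in
/-- the quotient `A / B⁺A` -/
abbrev Quot := A ⧸ augIdeal k A B

variable (k A B) in
/-- the projection `A → A / B⁺A` -/
noncomputable def proj : A →ₐ[k] Quot k A B := Ideal.Quotient.mkₐ k (augIdeal k A B)

variable (f : B →ₐc[k] A) (hf : ∀ b, algebraMap B A b = f b)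

include hf in
lemma proj_comp_f : (proj k A B).comp (f : B →ₐ[k] A) = cone := by
  ext b
  rw [cone_apply]
  have h1 : (b - algebraMap k B (Coalgebra.counit b)) ∈ RingHom.ker (Bialgebra.counitAlgHom k B) := by
    rw [RingHom.mem_ker, map_sub]
    simp
  have h2 : algebraMap B A (b - algebraMap k B (Coalgebra.counit b)) ∈ augIdeal k A B :=
    Ideal.mem_map_of_mem _ h1
  have h3 : proj k A B (algebraMap B A (b - algebraMap k B (Coalgebra.counit b))) = 0 := by
    rw [proj, Ideal.Quotient.mkₐ_eq_mk, Ideal.Quotient.eq_zero_iff_mem]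
    exact h2
  rw [map_sub, map_sub, sub_eq_zero, hf, ← IsScalarTower.algebraMap_apply,
    AlgHom.commutes] at h3
  exact h3

variable (k A B) in
/-- the first inclusion `A → A ⊗[B] A` as a `k`-algebra map -/
noncomputable def q₁ : A →ₐ[k] A ⊗[B] A :=
  (Algebra.TensorProduct.includeLeft (S := B) : A →ₐ[B] A ⊗[B] A).restrictScalars k

variable (k A B) in
/-- the second inclusion `A → A ⊗[B] A` as a `k`-algebra map -/
noncomputable def q₂ : A →ₐ[k] A ⊗[B] A :=
  (Algebra.TensorProduct.includeRight : A →ₐ[B] A ⊗[B] A).restrictScalars k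

lemma q₁_apply (a : A) : q₁ k A B a = a ⊗ₜ[B] (1 : A) := rfl
lemma q₂_apply (a : A) : q₂ k A B a = (1 : A) ⊗ₜ[B] a := rfl

include hf in
lemma q₁_comp_f : (q₁ k A B).comp (f : B →ₐ[k] A) = (q₂ k A B).comp (f : B →ₐ[k] A) := by
  ext b
  simp only [AlgHom.coe_comp, Function.comp_apply, q₁_apply, q₂_apply]
  change (f b) ⊗ₜ[B] (1 : A) = (1 : A) ⊗ₜ[B] (f b)
  rw [← hf, Algebra.algebraMap_eq_smul_one, TensorProduct.smul_tmul]

theorem tensorB_ext {D : Type*} [CommRing D] [Algebra k D] {F G : A ⊗[B] A →ₐ[k] D}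
    (h1 : F.comp (q₁ k A B) = G.comp (q₁ k A B)) (h2 : F.comp (q₂ k A B) = G.comp (q₂ k A B)) :
    F = G := by
  ext z
  induction z using TensorProduct.induction_on with
  | zero => simp
  | tmul a a' =>
    have : a ⊗ₜ[B] a' = q₁ k A B a * q₂ k A B a' := by
      rw [q₁_apply, q₂_apply, Algebra.TensorProduct.tmul_mul_tmul, mul_one, one_mul]
    rw [this, map_mul, map_mul]
    have e1 := congrArg (fun H : A →ₐ[k] D => H a) h1
    have e2 := congrArg (fun H : A →ₐ[k] D => H a') h2
    simp only [AlgHom.coe_comp, Function.comp_apply] at e1 e2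
    rw [e1, e2]
  | add x y hx hy => rw [map_add, map_add, hx, hy]

variable (k A B) in
/-- `ι₁ : A → A ⊗ C` -/
noncomputable def i₁ : A →ₐ[k] A ⊗[k] Quot k A B := Algebra.TensorProduct.includeLeft (S := k)

variable (k A B) in
/-- `ι₂ : C → A ⊗ C` -/
noncomputable def i₂ : Quot k A B →ₐ[k] A ⊗[k] Quot k A B := Algebra.TensorProduct.includeRight

variable (k A B) in
/-- the coaction `a ↦ a₁ ⊗ π(a₂)` -/
noncomputable def coactC : A →ₐ[k] A ⊗[k] Quot k A B :=
  cmul (i₁ k A B) ((i₂ k A B).comp (proj k A B))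

include hf in
lemma coactC_comp_f : (coactC k A B).comp (f : B →ₐ[k] A) = (i₁ k A B).comp (f : B →ₐ[k] A) := by
  rw [coactC, cmul_comp_bialgHom, AlgHom.comp_assoc, proj_comp_f f hf, comp_cone, cmul_cone]

/-- `γ : a ↦ S(a₁) ⊗_B a₂` -/
noncomputable def gam : A →ₐ[k] A ⊗[B] A := cmul (cinv (q₁ k A B)) (q₂ k A B)

include hf in
lemma gam_comp_f : (gam (k := k) (A := A) (B := B)).comp (f : B →ₐ[k] A) = cone := by
  rw [gam, cmul_comp_bialgHom, cinv_comp_bialgHom, q₁_comp_f f hf, cinv_cmul]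

include hf in
lemma gam_mem (a : A) (ha : a ∈ augIdeal k A B) : gam (k := k) (B := B) a = 0 := by
  have hle : augIdeal k A B ≤ RingHom.ker (gam (k := k) (A := A) (B := B)) := by
    rw [augIdeal, Ideal.map_le_iff_le_comap]
    intro b hb
    rw [Ideal.mem_comap, RingHom.mem_ker, hf]
    have := congrArg (fun H : B →ₐ[k] A ⊗[B] A => H b) (gam_comp_f f hf)
    simp only [AlgHom.coe_comp, Function.comp_apply] at this
    replace this : gam (k := k) (A := A) (B := B) (f b) = cone b := this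
    rw [this, cone_apply]
    have hb' : Coalgebra.counit (R := k) b = 0 := hb
    rw [hb', map_zero]
  exact hle ha

/-- `γ̄ : C → A ⊗[B] A` -/
noncomputable def gamBar : Quot k A B →ₐ[k] A ⊗[B] A :=
  Ideal.Quotient.liftₐ (augIdeal k A B) (gam (k := k) (A := A) (B := B)) (gam_mem f hf)

lemma gamBar_comp_proj : (gamBar f hf).comp (proj k A B) = gam := by
  ext a
  rfl

/-- the Galois map `A ⊗[B] A → A ⊗ C`, as an `A`-algebra map -/
noncomputable def thetaFwd : A ⊗[B] A →ₐ[A] A ⊗[k] Quot k A B :=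
  Algebra.TensorProduct.lift (S := A) (Algebra.ofId A (A ⊗[k] Quot k A B))
    ({ (coactC k A B).toRingHom with
        commutes' := fun b => by
          have := congrArg (fun H : B →ₐ[k] A ⊗[k] Quot k A B => H b) (coactC_comp_f f hf)
          simp only [AlgHom.coe_comp, Function.comp_apply] at this
          replace this : coactC k A B (f b) = i₁ k A B (f b) := this
          change coactC k A B (algebraMap B A b) = _
          rw [hf, this, ← hf]
          rfl } : A →ₐ[B] A ⊗[k] Quot k A B)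
    (fun _ _ => Commute.all _ _)

lemma thetaFwd_tmul (a a' : A) :
    thetaFwd f hf (a ⊗ₜ[B] a') = i₁ k A B a * coactC k A B a' := by
  simp [thetaFwd, i₁]

/-- the inverse Galois map, as a `k`-algebra map -/
noncomputable def thetaBwd : A ⊗[k] Quot k A B →ₐ[k] A ⊗[B] A :=
  Algebra.TensorProduct.lift (S := k) (q₁ k A B) (gamBar f hf) (fun _ _ => Commute.all _ _)

lemma thetaFwd_comp_q₁ :
    ((thetaFwd f hf).restrictScalars k).comp (q₁ k A B) = i₁ k A B := by
  ext a
  simp only [AlgHom.coe_comp, AlgHom.coe_restrictScalars', Function.comp_apply, q₁_apply]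
  rw [thetaFwd_tmul, map_one, mul_one]

lemma thetaFwd_comp_q₂ :
    ((thetaFwd f hf).restrictScalars k).comp (q₂ k A B) = coactC k A B := by
  ext a
  simp only [AlgHom.coe_comp, AlgHom.coe_restrictScalars', Function.comp_apply, q₂_apply]
  rw [thetaFwd_tmul, map_one, one_mul]

lemma thetaBwd_comp_i₁ : (thetaBwd f hf).comp (i₁ k A B) = q₁ k A B :=
  Algebra.TensorProduct.lift_comp_includeLeft _ _ (fun _ _ => Commute.all _ _)

lemma thetaBwd_comp_i₂ : (thetaBwd f hf).comp (i₂ k A B) = gamBar f hf :=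
  Algebra.TensorProduct.lift_comp_includeRight _ _ (fun _ _ => Commute.all _ _)

lemma thetaBwd_comp_thetaFwd :
    (thetaBwd f hf).comp ((thetaFwd f hf).restrictScalars k) = AlgHom.id k _ := by
  apply tensorB_ext
  · rw [AlgHom.comp_assoc, thetaFwd_comp_q₁, thetaBwd_comp_i₁, AlgHom.id_comp]
  · rw [AlgHom.comp_assoc, thetaFwd_comp_q₂, coactC, comp_cmul, thetaBwd_comp_i₁,
      ← AlgHom.comp_assoc, thetaBwd_comp_i₂, gamBar_comp_proj, gam, cmul_cinv_cancel_left,
      AlgHom.id_comp]

lemma thetaFwd_comp_thetaBwd :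
    ((thetaFwd f hf).restrictScalars k).comp (thetaBwd f hf) = AlgHom.id k _ := by
  apply Algebra.TensorProduct.ext
  · change (((thetaFwd f hf).restrictScalars k).comp (thetaBwd f hf)).comp (i₁ k A B) =
      (AlgHom.id k _).comp (i₁ k A B)
    rw [AlgHom.comp_assoc, thetaBwd_comp_i₁, thetaFwd_comp_q₁, AlgHom.id_comp]
  · apply Ideal.Quotient.algHom_ext
    change ((((thetaFwd f hf).restrictScalars k).comp (thetaBwd f hf)).comp (i₂ k A B)).comp
      (proj k A B) = ((AlgHom.id k _).comp (i₂ k A B)).comp (proj k A B)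
    rw [AlgHom.comp_assoc, AlgHom.comp_assoc, ← AlgHom.comp_assoc (thetaBwd f hf),
      thetaBwd_comp_i₂, gamBar_comp_proj, gam, comp_cmul, comp_cinv, thetaFwd_comp_q₁,
      thetaFwd_comp_q₂, coactC, cinv_cmul_cancel_left, AlgHom.id_comp]

theorem thetaFwd_bijective : Function.Bijective (thetaFwd f hf) := by
  refine Function.bijective_iff_has_inverse.mpr ⟨thetaBwd f hf, fun z => ?_, fun z => ?_⟩
  · exact congrArg (fun H : A ⊗[B] A →ₐ[k] A ⊗[B] A => H z) (thetaBwd_comp_thetaFwd f hf)
  · exact congrArg (fun H : A ⊗[k] Quot k A B →ₐ[k] A ⊗[k] Quot k A B => H z)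
      (thetaFwd_comp_thetaBwd f hf)

/-- the Galois isomorphism as an `A`-linear equivalence -/
noncomputable def thetaEquiv : A ⊗[B] A ≃ₗ[A] A ⊗[k] Quot k A B :=
  LinearEquiv.ofBijective (thetaFwd f hf).toLinearMap (thetaFwd_bijective f hf)

end Galois

section Field

variable {k : Type*} {A : Type*} {B : Type*} [Field k] [CommRing A] [HopfAlgebra k A]
  [CommRing B] [HopfAlgebra k B] [Algebra B A] [IsScalarTower k B A]
  (f : B →ₐc[k] A) (hf : ∀ b, algebraMap B A b = f b)

include hf in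
theorem flat_tensorB : Module.Flat A (A ⊗[B] A) :=
  Module.Flat.of_linearEquiv (thetaEquiv f hf)

end Field

end Groth.Agent.H9.FF
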