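import Mathlib

/-!
# Freeness over a local ring with nilpotent maximal ideal

* `eq_top_of_sup_smul_eq_top`, `eq_bot_of_le_smul`: Nakayama for nilpotent ideals (no finiteness).
* `injective_of_surjective_of_ker_le`: a surjection onto a flat module whose kernel lies in `N • ⊤`
  for a nilpotent ideal `N` is injective.
* `free_of_flat_tensor_self`: if `R` is local with nilpotent maximal ideal, `R → S` is injective and
  `S ⊗[R] S` is flat over `S`, then `S` is free over `R`.
-/

namespace Groth.Agent.H9.FF

open TensorProduct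

section Nakayama

variable {R : Type*} {M : Type*} [CommRing R] [AddCommGroup M] [Module R M]

theorem eq_top_of_sup_smul_eq_top (I : Ideal R) (hI : IsNilpotent I) (N : Submodule R M)
    (h : N ⊔ I • (⊤ : Submodule R M) = ⊤) : N = ⊤ := by
  obtain ⟨n, hn⟩ := hI
  have key : ∀ m : ℕ, N ⊔ I ^ m • (⊤ : Submodule R M) = ⊤ := by
    intro m
    induction m with
    | zero => simp
    | succ m ih =>
      rw [eq_top_iff]
      calc (⊤ : Submodule R M) = N ⊔ I • (⊤ : Submodule R M) := h.symm
        _ = N ⊔ I • (N ⊔ I ^ m • (⊤ : Submodule R M)) := by rw [ih]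
        _ = N ⊔ (I • N ⊔ I • (I ^ m • (⊤ : Submodule R M))) := by rw [Submodule.smul_sup]
        _ ≤ N ⊔ I ^ (m + 1) • (⊤ : Submodule R M) := by
          rw [← mul_smul, ← pow_succ']
          exact sup_le le_sup_left
            (sup_le (le_sup_of_le_left Submodule.smul_le_right) le_sup_right)
  have := key n
  rwa [hn, Submodule.zero_eq_bot, Submodule.bot_smul, sup_bot_eq] at this

theorem eq_bot_of_le_smul (I : Ideal R) (hI : IsNilpotent I) (K : Submodule R M)
    (h : K ≤ I • K) : K = ⊥ := by
  obtain ⟨n, hn⟩ := hI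
  have key : ∀ m : ℕ, K ≤ I ^ m • K := by
    intro m
    induction m with
    | zero => simp
    | succ m ih =>
      calc K ≤ I • K := h
        _ ≤ I • (I ^ m • K) := Submodule.smul_mono le_rfl ih
        _ = I ^ (m + 1) • K := by rw [← mul_smul, ← pow_succ']
  have := key n
  rw [hn, Submodule.zero_eq_bot, Submodule.bot_smul] at this
  exact le_bot_iff.mp this

end Nakayama

section Flat

variable {S F F' : Type*} [CommRing S] [AddCommGroup F] [Module S F] [AddCommGroup F']
  [Module S F']

theorem injective_of_surjective_of_ker_le [Module.Flat S F'] (N : Ideal S) (hN : IsNilpotent N)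
    (ψ : F →ₗ[S] F') (hs : Function.Surjective ψ)
    (hk : LinearMap.ker ψ ≤ N • (⊤ : Submodule S F)) : Function.Injective ψ := by
  classical
  rw [← LinearMap.ker_eq_bot]
  apply eq_bot_of_le_smul N hN
  intro x hx
  have hx' := hk hx
  have htop : (⊤ : Submodule S F) = Submodule.span S (Set.range (id : F → F)) := by simp
  rw [htop, Submodule.mem_ideal_smul_span_iff_exists_sum] at hx'
  obtain ⟨a, ha, hax⟩ := hx'
  -- the relation in F'
  have hrel : ∑ i : a.support, a i • ψ (i : F) = 0 := by
    have : ψ x = 0 := hx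
    rw [← hax, Finsupp.sum, map_sum] at this
    rw [Finset.sum_coe_sort a.support (fun i => a i • ψ i)]
    simpa using this
  obtain ⟨k, c, y, hy, hc⟩ := Module.Flat.isTrivialRelation_of_sum_smul_eq_zero hrel
  choose g hg using fun j => hs (y j)
  -- the corrected elements
  have hker : ∀ i : a.support, ((i : F) - ∑ j, c i j • g j) ∈ LinearMap.ker ψ := by
    intro i
    have hyi : ψ (i : F) = ∑ j, c i j • y j := hy i
    rw [LinearMap.mem_ker, map_sub, map_sum, hyi, sub_eq_zero]
    refine Finset.sum_congr rfl fun j _ => ?_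
    rw [map_smul, hg]
  have hxeq : x = ∑ i : a.support, a i • ((i : F) - ∑ j, c i j • g j) := by
    have h1 : ∑ i : a.support, a i • ∑ j, c i j • g j = 0 := by
      simp_rw [Finset.smul_sum, smul_smul]
      rw [Finset.sum_comm]
      refine Finset.sum_eq_zero fun j _ => ?_
      rw [← Finset.sum_smul, hc j, zero_smul]
    simp_rw [smul_sub]
    rw [Finset.sum_sub_distrib, h1, sub_zero, Finset.sum_coe_sort a.support (fun i => a i • i)]
    rw [← hax, Finsupp.sum]
    rfl
  rw [hxeq]
  exact Submodule.sum_mem _ fun i _ => Submodule.smul_mem_smul (ha i) (hker i)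

end Flat

section LocalFree

variable {R S : Type*} [CommRing R] [IsLocalRing R] [CommRing S] [Algebra R S]

theorem free_of_flat_tensor_self (hnil : IsNilpotent (IsLocalRing.maximalIdeal R))
    (hinj : Function.Injective (algebraMap R S)) [Module.Flat S (S ⊗[R] S)] :
    Module.Free R S := by
  classical
  set 𝔯 : Ideal R := IsLocalRing.maximalIdeal R with h𝔯
  let _ : Field (R ⧸ 𝔯) := Ideal.Quotient.field 𝔯
  set N : Ideal S := 𝔯.map (algebraMap R S) with hN
  have hNnil : IsNilpotent N := by
    obtain ⟨n, hn⟩ := hnil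
    exact ⟨n, by rw [hN, ← Ideal.map_pow, hn, Ideal.zero_eq_bot, Ideal.map_bot]; rfl⟩
  let bb := Module.Free.chooseBasis (R ⧸ 𝔯) (S ⧸ N)
  let ι := Module.Free.ChooseBasisIndex (R ⧸ 𝔯) (S ⧸ N)
  choose b hb using fun i : ι => Ideal.Quotient.mk_surjective (bb i)
  let φ : (ι →₀ R) →ₗ[R] S := Finsupp.linearCombination R b
  let mkl : S →ₗ[R] (S ⧸ N) := (Ideal.Quotient.mkₐ R N).toLinearMap
  have hmkl : ∀ s, mkl s = Ideal.Quotient.mk N s := fun s => rfl
  -- surjectivity of φ
  have hφs : Function.Surjective φ := by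
    rw [← LinearMap.range_eq_top]
    apply eq_top_of_sup_smul_eq_top 𝔯 hnil
    have hker : LinearMap.ker mkl = 𝔯 • (⊤ : Submodule R S) := by
      rw [Ideal.smul_top_eq_map]
      ext s
      rw [LinearMap.mem_ker, hmkl, Ideal.Quotient.eq_zero_iff_mem]
      rfl
    rw [← hker, ← Submodule.comap_map_eq]
    have hmap : Submodule.map mkl (LinearMap.range φ) = ⊤ := by
      rw [Finsupp.range_linearCombination, Submodule.map_span, ← Set.range_comp]
      have : (mkl ∘ b) = bb := by
        funext i
        simp [hmkl, hb]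
      rw [this, ← Submodule.restrictScalars_span R (R ⧸ 𝔯) Ideal.Quotient.mk_surjective, bb.span_eq]
      rfl
    rw [hmap, Submodule.comap_top]
  -- the base-changed map
  let φS : (ι →₀ S) →ₗ[S] S ⊗[R] S := Finsupp.linearCombination S (fun i => (1 : S) ⊗ₜ[R] b i)
  have hφS_apply : ∀ x : ι →₀ S, φS x = x.sum fun i c => c ⊗ₜ[R] b i := by
    intro x
    simp only [φS, Finsupp.linearCombination_apply]
    refine Finsupp.sum_congr fun i _ => ?_
    rw [TensorProduct.smul_tmul', smul_eq_mul, mul_one]
  have hcomp : ∀ x : ι →₀ R, φS (x.mapRange (algebraMap R S) (map_zero _)) = 1 ⊗ₜ[R] φ x := by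
    intro x
    rw [hφS_apply, Finsupp.sum_mapRange_index (by intro i; simp)]
    simp only [φ, Finsupp.linearCombination_apply, Finsupp.sum, TensorProduct.tmul_sum]
    refine Finset.sum_congr rfl fun i _ => ?_
    rw [Algebra.algebraMap_eq_smul_one, TensorProduct.smul_tmul]
  have hφSs : Function.Surjective φS := by
    intro z
    induction z using TensorProduct.induction_on with
    | zero => exact ⟨0, map_zero _⟩
    | tmul s s' =>
      obtain ⟨y, rfl⟩ := hφs s'
      refine ⟨s • y.mapRange (algebraMap R S) (map_zero _), ?_⟩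
      rw [map_smul, hcomp, TensorProduct.smul_tmul', smul_eq_mul, mul_one]
    | add z w hz hw =>
      obtain ⟨x, rfl⟩ := hz
      obtain ⟨y, rfl⟩ := hw
      exact ⟨x + y, map_add _ _ _⟩
  -- coordinate functionals
  have hΛ : ∀ i : ι, ∃ Λ : S ⊗[R] S →ₗ[R] (S ⧸ N), ∀ s s' : S,
      Λ (s ⊗ₜ[R] s') = (bb.repr (Ideal.Quotient.mk N s') i) • Ideal.Quotient.mk N s := by
    intro i
    refine ⟨TensorProduct.lift (LinearMap.mk₂ R
      (fun s s' => (bb.repr (mkl s') i) • mkl s) ?_ ?_ ?_ ?_), ?_⟩
    · intro s₁ s₂ s'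
      rw [map_add, smul_add]
    · intro r s s'
      rw [map_smul, smul_comm]
    · intro s s₁ s₂
      rw [map_add, map_add, Finsupp.add_apply, add_smul]
    · intro r s s'
      rw [map_smul, ← algebraMap_smul (R ⧸ 𝔯) r (mkl s'), map_smul, Finsupp.smul_apply,
        smul_eq_mul, mul_smul, algebraMap_smul]
    · intro s s'
      rfl
  choose Λ hΛ using hΛ
  have hker : LinearMap.ker φS ≤ N • (⊤ : Submodule S (ι →₀ S)) := by
    intro x hx
    have hx0 : φS x = 0 := hx
    have hxi : ∀ i, x i ∈ N := by
      intro i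
      have := congrArg (Λ i) hx0
      rw [hφS_apply, map_zero, Finsupp.sum, map_sum] at this
      simp_rw [hΛ, hb, bb.repr_self] at this
      rw [Finset.sum_eq_single i] at this
      · simpa [Ideal.Quotient.eq_zero_iff_mem] using this
      · intro j _ hji
        rw [Finsupp.single_eq_of_ne hji.symm, zero_smul]
      · intro hi
        rw [Finsupp.notMem_support_iff.mp hi]
        simp
    rw [← Finsupp.sum_single x, Finsupp.sum]
    refine Submodule.sum_mem _ fun i _ => ?_
    have : Finsupp.single i (x i) = x i • Finsupp.single i (1 : S) := by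
      rw [Finsupp.smul_single, smul_eq_mul, mul_one]
    rw [this]
    exact Submodule.smul_mem_smul (hxi i) Submodule.mem_top
  have hφSi : Function.Injective φS := injective_of_surjective_of_ker_le N hNnil φS hφSs hker
  have hφi : Function.Injective φ := by
    rw [← LinearMap.ker_eq_bot, LinearMap.ker_eq_bot']
    intro x hx
    have h1 : φS (x.mapRange (algebraMap R S) (map_zero _)) = 0 := by
      rw [hcomp, hx, TensorProduct.tmul_zero]
    have h2 := hφSi (h1.trans (map_zero φS).symm)
    exact Finsupp.mapRange_injective _ (map_zero _) hinj (h2.trans Finsupp.mapRange_zero.symm)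
  exact Module.Free.of_basis (Module.Basis.ofRepr (LinearEquiv.ofBijective φ ⟨hφi, hφs⟩).symm)

end LocalFree

end Groth.Agent.H9.FF
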