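import Mathlib
import Groth.Agent.Lib.Helper9.FF.Conv

/-!
# Shear isomorphisms and the Masuoka–Wigner flatness lemma

For a commutative Hopf algebra `A` over `k`, a bialgebra map `f : B →ₐc[k] A` from a commutative Hopf
algebra and an algebra map `τ : A →ₐ[k] T`:

* `shearT τ : T ⊗ A ≃ₐ T ⊗ A`, `t ⊗ a ↦ t τ(a₁) ⊗ a₂`;
* `shearB f : B ⊗ A ≃ₐ B ⊗ A`, `b ⊗ a ↦ b₁ ⊗ f(b₂) a`;
* `flat_of_exists_flat`: if `T` is nonzero and flat over `B` (through `τ ∘ f`) then `A` is flat over `B`.
-/

namespace Groth.Agent.H9.FF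

open TensorProduct Conv

section LemmaD

variable {B A W : Type*} [CommRing B] [CommRing A] [CommRing W]

theorem faithfullyFlat_comp {R S T : Type*} [CommRing R] [CommRing S] [CommRing T]
    (f : R →+* S) (g : S →+* T) (hf : f.FaithfullyFlat) (hg : g.FaithfullyFlat) :
    (g.comp f).FaithfullyFlat := by
  algebraize [f, g, g.comp f]
  rw [← RingHom.algebraMap_toAlgebra (g.comp f), RingHom.faithfullyFlat_algebraMap_iff]
  exact .trans R S T

/-- If `A → W` is faithfully flat and `W` is flat over `B` then `A` is flat over `B`. -/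
theorem flat_of_flat_comp (f : B →+* A) (g : A →+* W) (hg : g.FaithfullyFlat)
    (hgf : (g.comp f).Flat) : f.Flat := by
  algebraize [f, g, g.comp f]
  rw [RingHom.Flat]
  rw [Module.Flat.iff_lTensor_preserves_injective_linearMap]
  intro N P _ _ _ _ u hu
  have hnat : ∀ z : A ⊗[B] N,
      LinearMap.lTensor W u (AlgebraTensorModule.cancelBaseChange B A W W N ((1 : W) ⊗ₜ[A] z)) =
        AlgebraTensorModule.cancelBaseChange B A W W P ((1 : W) ⊗ₜ[A] (LinearMap.lTensor A u z)) := by
    intro z
    induction z using TensorProduct.induction_on with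
    | zero => simp
    | tmul a n => simp
    | add x y hx hy =>
      simp only [TensorProduct.tmul_add, map_add, hx, hy]
  rw [injective_iff_map_eq_zero]
  intro z hz
  have h1 := hnat z
  rw [hz, TensorProduct.tmul_zero, map_zero] at h1
  have h2 : AlgebraTensorModule.cancelBaseChange B A W W N ((1 : W) ⊗ₜ[A] z) = 0 :=
    (Module.Flat.lTensor_preserves_injective_linearMap u hu) (h1.trans (map_zero _).symm)
  have h3 : (1 : W) ⊗ₜ[A] z = 0 :=
    (AlgebraTensorModule.cancelBaseChange B A W W N).injective (h2.trans (map_zero _).symm)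
  exact Module.FaithfullyFlat.tensorProduct_mk_injective (A := A) (B := W) (A ⊗[B] N)
    (h3.trans (TensorProduct.tmul_zero _ _).symm)

theorem tensor_ext {k A B C : Type*} [CommRing k] [CommRing A] [Algebra k A] [CommRing B]
    [Algebra k B] [CommRing C] [Algebra k C] {F G : A ⊗[k] B →ₐ[k] C}
    (ha : F.comp (Algebra.TensorProduct.includeLeft (S := k)) =
      G.comp (Algebra.TensorProduct.includeLeft (S := k)))
    (hb : F.comp Algebra.TensorProduct.includeRight = G.comp Algebra.TensorProduct.includeRight) :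
    F = G := by
  apply Algebra.TensorProduct.ext ha
  ext b
  exact congrArg (fun H : B →ₐ[k] C => H b) hb

end LemmaD

section ShearT

variable {k : Type*} {A : Type*} {T : Type*} [CommRing k] [CommRing A] [HopfAlgebra k A]
  [CommRing T] [Algebra k T] (τ : A →ₐ[k] T)

/-- the point `ι₁ ∘ τ` of `T ⊗ A` -/
noncomputable def ptL : A →ₐ[k] T ⊗[k] A :=
  (Algebra.TensorProduct.includeLeft (S := k) : T →ₐ[k] T ⊗[k] A).comp τ

/-- the "translation" map `a ↦ Σ τ(a₁) ⊗ a₂` -/
noncomputable def transl : A →ₐ[k] T ⊗[k] A :=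
  cmul (ptL τ) Algebra.TensorProduct.includeRight

noncomputable def shearFwd : T ⊗[k] A →ₐ[k] T ⊗[k] A :=
  Algebra.TensorProduct.lift (S := k) Algebra.TensorProduct.includeLeft (transl τ)
    (fun _ _ => Commute.all _ _)

noncomputable def shearBwd : T ⊗[k] A →ₐ[k] T ⊗[k] A :=
  Algebra.TensorProduct.lift (S := k) Algebra.TensorProduct.includeLeft
    (cmul (cinv (ptL τ)) Algebra.TensorProduct.includeRight) (fun _ _ => Commute.all _ _)

lemma shearFwd_comp_includeLeft :
    (shearFwd τ).comp (Algebra.TensorProduct.includeLeft (S := k)) =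
      Algebra.TensorProduct.includeLeft (S := k) :=
  Algebra.TensorProduct.lift_comp_includeLeft _ _ (fun _ _ => Commute.all _ _)

lemma shearBwd_comp_includeLeft :
    (shearBwd τ).comp (Algebra.TensorProduct.includeLeft (S := k)) =
      Algebra.TensorProduct.includeLeft (S := k) :=
  Algebra.TensorProduct.lift_comp_includeLeft _ _ (fun _ _ => Commute.all _ _)

lemma shearFwd_comp_includeRight :
    (shearFwd τ).comp Algebra.TensorProduct.includeRight = transl τ :=
  Algebra.TensorProduct.lift_comp_includeRight _ _ (fun _ _ => Commute.all _ _)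

lemma shearBwd_comp_includeRight :
    (shearBwd τ).comp Algebra.TensorProduct.includeRight =
      cmul (cinv (ptL τ)) Algebra.TensorProduct.includeRight :=
  Algebra.TensorProduct.lift_comp_includeRight _ _ (fun _ _ => Commute.all _ _)

lemma shearFwd_comp_ptL : (shearFwd τ).comp (ptL τ) = ptL τ := by
  unfold ptL
  rw [← AlgHom.comp_assoc, shearFwd_comp_includeLeft]

lemma shearBwd_comp_ptL : (shearBwd τ).comp (ptL τ) = ptL τ := by
  unfold ptL
  rw [← AlgHom.comp_assoc, shearBwd_comp_includeLeft]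

lemma shearBwd_comp_shearFwd : (shearBwd τ).comp (shearFwd τ) = AlgHom.id k _ := by
  apply tensor_ext
  · rw [AlgHom.comp_assoc, shearFwd_comp_includeLeft, shearBwd_comp_includeLeft, AlgHom.id_comp]
  · rw [AlgHom.comp_assoc, shearFwd_comp_includeRight, transl, comp_cmul, shearBwd_comp_ptL,
      shearBwd_comp_includeRight, cmul_cinv_cancel_left]
    rfl

lemma shearFwd_comp_shearBwd : (shearFwd τ).comp (shearBwd τ) = AlgHom.id k _ := by
  apply tensor_ext
  · rw [AlgHom.comp_assoc, shearBwd_comp_includeLeft, shearFwd_comp_includeLeft, AlgHom.id_comp]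
  · rw [AlgHom.comp_assoc, shearBwd_comp_includeRight, comp_cmul, comp_cinv, shearFwd_comp_ptL,
      shearFwd_comp_includeRight, transl, cinv_cmul_cancel_left]
    rfl

/-- the shear automorphism `t ⊗ a ↦ t τ(a₁) ⊗ a₂` of `T ⊗ A` -/
noncomputable def shearT : T ⊗[k] A ≃ₐ[k] T ⊗[k] A :=
  AlgEquiv.ofAlgHom (shearFwd τ) (shearBwd τ) (shearFwd_comp_shearBwd τ) (shearBwd_comp_shearFwd τ)

lemma shearT_includeRight (a : A) : shearT τ ((1 : T) ⊗ₜ[k] a) = transl τ a := by
  have := congrArg (fun F : A →ₐ[k] T ⊗[k] A => F a) (shearFwd_comp_includeRight τ)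
  exact this

end ShearT

section FF

variable {k : Type*} {A : Type*} {T : Type*} [Field k] [CommRing A] [HopfAlgebra k A]
  [CommRing T] [Algebra k T] (τ : A →ₐ[k] T)

theorem includeRight_faithfullyFlat [Nontrivial T] :
    (Algebra.TensorProduct.includeRight : A →ₐ[k] T ⊗[k] A).toRingHom.FaithfullyFlat := by
  have h1 : (algebraMap A (A ⊗[k] T)).FaithfullyFlat :=
    RingHom.faithfullyFlat_algebraMap_iff.mpr inferInstance
  have h2 : (Algebra.TensorProduct.includeRight : A →ₐ[k] T ⊗[k] A).toRingHom =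
      (Algebra.TensorProduct.comm k A T).toAlgHom.toRingHom.comp (algebraMap A (A ⊗[k] T)) := by
    ext a
    simp [Algebra.TensorProduct.algebraMap_apply]
  rw [h2]
  exact faithfullyFlat_comp _ _ h1
    (RingHom.FaithfullyFlat.of_bijective (Algebra.TensorProduct.comm k A T).bijective)

theorem transl_faithfullyFlat [Nontrivial T] : (transl τ).toRingHom.FaithfullyFlat := by
  have h2 : (transl τ).toRingHom =
      (shearT τ).toAlgHom.toRingHom.comp
        (Algebra.TensorProduct.includeRight : A →ₐ[k] T ⊗[k] A).toRingHom := by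
    ext a
    exact (shearT_includeRight τ a).symm
  rw [h2]
  exact faithfullyFlat_comp _ _ includeRight_faithfullyFlat
    (RingHom.FaithfullyFlat.of_bijective (shearT τ).bijective)

end FF

section ShearB

variable {k : Type*} {A : Type*} {B : Type*} [CommRing k] [CommRing A] [HopfAlgebra k A]
  [CommRing B] [HopfAlgebra k B] (f : B →ₐc[k] A)

/-- the point `ι₂ ∘ f` of `B ⊗ A` -/
noncomputable def ptR : B →ₐ[k] B ⊗[k] A :=
  (Algebra.TensorProduct.includeRight : A →ₐ[k] B ⊗[k] A).comp (f : B →ₐ[k] A)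

/-- `b ↦ Σ b₁ ⊗ f(b₂)` -/
noncomputable def comulBA : B →ₐ[k] B ⊗[k] A :=
  cmul (Algebra.TensorProduct.includeLeft (S := k)) (ptR f)

noncomputable def shearBFwd : B ⊗[k] A →ₐ[k] B ⊗[k] A :=
  Algebra.TensorProduct.lift (S := k) (comulBA f) Algebra.TensorProduct.includeRight
    (fun _ _ => Commute.all _ _)

noncomputable def shearBBwd : B ⊗[k] A →ₐ[k] B ⊗[k] A :=
  Algebra.TensorProduct.lift (S := k)
    (cmul (Algebra.TensorProduct.includeLeft (S := k)) (cinv (ptR f)))
    Algebra.TensorProduct.includeRight (fun _ _ => Commute.all _ _)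

lemma shearBFwd_comp_includeRight :
    (shearBFwd f).comp Algebra.TensorProduct.includeRight = Algebra.TensorProduct.includeRight :=
  Algebra.TensorProduct.lift_comp_includeRight _ _ (fun _ _ => Commute.all _ _)

lemma shearBBwd_comp_includeRight :
    (shearBBwd f).comp Algebra.TensorProduct.includeRight = Algebra.TensorProduct.includeRight :=
  Algebra.TensorProduct.lift_comp_includeRight _ _ (fun _ _ => Commute.all _ _)

lemma shearBFwd_comp_includeLeft :
    (shearBFwd f).comp (Algebra.TensorProduct.includeLeft (S := k)) = comulBA f :=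
  Algebra.TensorProduct.lift_comp_includeLeft _ _ (fun _ _ => Commute.all _ _)

lemma shearBBwd_comp_includeLeft :
    (shearBBwd f).comp (Algebra.TensorProduct.includeLeft (S := k)) =
      cmul (Algebra.TensorProduct.includeLeft (S := k)) (cinv (ptR f)) :=
  Algebra.TensorProduct.lift_comp_includeLeft _ _ (fun _ _ => Commute.all _ _)

lemma shearBFwd_comp_ptR : (shearBFwd f).comp (ptR f) = ptR f := by
  unfold ptR
  rw [← AlgHom.comp_assoc, shearBFwd_comp_includeRight]

lemma shearBBwd_comp_ptR : (shearBBwd f).comp (ptR f) = ptR f := by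
  unfold ptR
  rw [← AlgHom.comp_assoc, shearBBwd_comp_includeRight]

lemma shearBBwd_comp_shearBFwd : (shearBBwd f).comp (shearBFwd f) = AlgHom.id k _ := by
  apply tensor_ext
  · rw [AlgHom.comp_assoc, shearBFwd_comp_includeLeft, comulBA, comp_cmul, shearBBwd_comp_ptR,
      shearBBwd_comp_includeLeft, cinv_cmul_cancel_right]
    rfl
  · rw [AlgHom.comp_assoc, shearBFwd_comp_includeRight, shearBBwd_comp_includeRight]
    rfl

lemma shearBFwd_comp_shearBBwd : (shearBFwd f).comp (shearBBwd f) = AlgHom.id k _ := by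
  apply tensor_ext
  · rw [AlgHom.comp_assoc, shearBBwd_comp_includeLeft, comp_cmul, comp_cinv, shearBFwd_comp_ptR,
      shearBFwd_comp_includeLeft, comulBA, cmul_cinv_cancel_right]
    rfl
  · rw [AlgHom.comp_assoc, shearBBwd_comp_includeRight, shearBFwd_comp_includeRight]
    rfl

/-- the shear automorphism `b ⊗ a ↦ b₁ ⊗ f(b₂) a` of `B ⊗ A` -/
noncomputable def shearB : B ⊗[k] A ≃ₐ[k] B ⊗[k] A :=
  AlgEquiv.ofAlgHom (shearBFwd f) (shearBBwd f) (shearBFwd_comp_shearBBwd f)
    (shearBBwd_comp_shearBFwd f)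

lemma shearB_includeLeft (b : B) : shearB f (b ⊗ₜ[k] (1 : A)) = comulBA f b := by
  have := congrArg (fun F : B →ₐ[k] B ⊗[k] A => F b) (shearBFwd_comp_includeLeft f)
  exact this

theorem comulBA_flat [Module.Flat k A] : (comulBA f).toRingHom.Flat := by
  have h1 : (algebraMap B (B ⊗[k] A)).Flat := RingHom.flat_algebraMap_iff.mpr inferInstance
  have h2 : (comulBA f).toRingHom =
      (shearB f).toAlgHom.toRingHom.comp (algebraMap B (B ⊗[k] A)) := by
    ext b
    exact (shearB_includeLeft f b).symm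
  rw [h2]
  exact RingHom.Flat.comp h1 (RingHom.Flat.of_bijective (shearB f).bijective)

variable {T : Type*} [CommRing T] [Algebra k T] (τ : A →ₐ[k] T)

lemma transl_comp_eq :
    (transl τ).comp (f : B →ₐ[k] A) =
      (Algebra.TensorProduct.map (τ.comp (f : B →ₐ[k] A)) (AlgHom.id k A)).comp (comulBA f) := by
  rw [transl, cmul_comp_bialgHom, comulBA, comp_cmul]
  congr 1
  ext b
  simp [ptR]

theorem transl_comp_flat [Module.Flat k A] (h : (τ.comp (f : B →ₐ[k] A)).toRingHom.Flat) :
    ((transl τ).comp (f : B →ₐ[k] A)).toRingHom.Flat := by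
  rw [transl_comp_eq]
  have h1 : (Algebra.TensorProduct.map (τ.comp (f : B →ₐ[k] A)) (AlgHom.id k A)).toRingHom.Flat :=
    RingHom.Flat.tensorProductMap (R := k) (S := k) h (RingHom.Flat.id A)
  exact RingHom.Flat.comp (comulBA_flat f) h1

end ShearB

section MW

variable {k : Type*} {A : Type*} {B : Type*} [Field k] [CommRing A] [HopfAlgebra k A]
  [CommRing B] [HopfAlgebra k B] (f : B →ₐc[k] A)

/-- **Masuoka–Wigner lemma**: if some nonzero `A`-algebra `T` is flat over `B` then `A` is flat
over `B`. -/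
theorem flat_of_exists_flat {T : Type*} [CommRing T] [Algebra k T] [Nontrivial T]
    (τ : A →ₐ[k] T) (h : (τ.comp (f : B →ₐ[k] A)).toRingHom.Flat) :
    (f : B →ₐ[k] A).toRingHom.Flat :=
  flat_of_flat_comp (f : B →ₐ[k] A).toRingHom (transl τ).toRingHom (transl_faithfullyFlat τ)
    (transl_comp_flat f τ h)

end MW

end Groth.Agent.H9.FF
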