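import Mathlib
import Groth.Agent.Lib.Helper9.FF.Shear

/-!
# Surjectivity of `Spec A → Spec B` for an injective map of commutative Hopf algebras

* `nontrivial_tensor_of_injective`: if `B → M`, `B → M'` are injective ring maps then `M ⊗[B] M'` is
  nontrivial (both spectra hit every minimal prime of `B`).
* `map_ne_top`: for an injective bialgebra map `f : B → A` of commutative Hopf algebras over a field
  and a maximal ideal `m` of `B`, `m A ≠ A`.
-/

namespace Groth.Agent.H9.FF

open TensorProduct Conv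

universe u v w x

set_option linter.style.haveILetI false

section LemmaN

variable {B : Type u} {M : Type v} {M' : Type w} [CommRing B] [CommRing M] [CommRing M']
  [Algebra B M] [Algebra B M']

theorem nontrivial_tensor_of_injective [Nontrivial B]
    (h : Function.Injective (algebraMap B M)) (h' : Function.Injective (algebraMap B M')) :
    Nontrivial (M ⊗[B] M') := by
  obtain ⟨m, hm⟩ := Ideal.exists_maximal B
  obtain ⟨Q, hQ, -⟩ := Ideal.exists_minimalPrimes_le (show (⊥ : Ideal B) ≤ m from bot_le)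
  have hQ' : Q ∈ minimalPrimes B := hQ
  haveI : Q.IsPrime := hQ.1.1
  obtain ⟨P, hP, hPQ⟩ := Ideal.exists_comap_eq_of_mem_minimalPrimes_of_injective h Q hQ'
  obtain ⟨P', hP', hPQ'⟩ := Ideal.exists_comap_eq_of_mem_minimalPrimes_of_injective h' Q hQ'
  let q : PrimeSpectrum B := ⟨Q, inferInstance⟩
  have h1 : Nontrivial (Q.ResidueField ⊗[B] M) :=
    (PrimeSpectrum.nontrivial_iff_mem_rangeComap q).mpr ⟨⟨P, hP⟩, PrimeSpectrum.ext hPQ⟩
  have h2 : Nontrivial (Q.ResidueField ⊗[B] M') :=
    (PrimeSpectrum.nontrivial_iff_mem_rangeComap q).mpr ⟨⟨P', hP'⟩, PrimeSpectrum.ext hPQ'⟩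
  have h3 : Nontrivial ((Q.ResidueField ⊗[B] M) ⊗[Q.ResidueField] (Q.ResidueField ⊗[B] M')) :=
    inferInstance
  have e := AlgebraTensorModule.distribBaseChange B Q.ResidueField M M'
  have h4 : Nontrivial (Q.ResidueField ⊗[B] (M ⊗[B] M')) := e.toEquiv.nontrivial
  by_contra hcon
  rw [not_nontrivial_iff_subsingleton] at hcon
  exact not_subsingleton _ (inferInstance : Subsingleton (Q.ResidueField ⊗[B] (M ⊗[B] M')))

end LemmaN

section Common

variable {k : Type u} {B : Type x} {M : Type v} {M' : Type w} [Field k] [CommRing B] [Algebra k B]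
  [CommRing M] [Algebra k M] [CommRing M'] [Algebra k M'] [Nontrivial B]

theorem exists_common (f : B →ₐ[k] M) (t : B →ₐ[k] M') (hf : Function.Injective f)
    (ht : Function.Injective t) :
    ∃ (Ω : Type (max v w)) (_ : CommRing Ω) (_ : Algebra k Ω) (_ : Nontrivial Ω)
      (u : M →ₐ[k] Ω) (v : M' →ₐ[k] Ω), u.comp f = v.comp t := by
  letI : Algebra B M := f.toRingHom.toAlgebra
  letI : Algebra B M' := t.toRingHom.toAlgebra
  haveI : IsScalarTower k B M := IsScalarTower.of_algebraMap_eq (fun r => (f.commutes r).symm)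
  haveI : IsScalarTower k B M' := IsScalarTower.of_algebraMap_eq (fun r => (t.commutes r).symm)
  refine ⟨M ⊗[B] M', inferInstance, inferInstance, nontrivial_tensor_of_injective hf ht,
    (Algebra.TensorProduct.includeLeft (S := B) : M →ₐ[B] M ⊗[B] M').restrictScalars k,
    (Algebra.TensorProduct.includeRight : M' →ₐ[B] M ⊗[B] M').restrictScalars k, ?_⟩
  ext b
  change (f b) ⊗ₜ[B] (1 : M') = (1 : M) ⊗ₜ[B] (t b)
  have h1 : f b = b • (1 : M) := by
    rw [Algebra.smul_def, mul_one]; rfl
  have h2 : t b = b • (1 : M') := by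
    rw [Algebra.smul_def, mul_one]; rfl
  rw [h1, h2, TensorProduct.smul_tmul]

end Common

section Surj

variable {k : Type u} {A : Type v} {B : Type x} [Field k] [CommRing A] [HopfAlgebra k A]
  [CommRing B] [HopfAlgebra k B] (f : B →ₐc[k] A)

theorem map_ne_top (hf : Function.Injective f) (m : Ideal B) [hm : m.IsMaximal] :
    m.map (f : B →+* A) ≠ ⊤ := by
  intro htop
  letI : Field (B ⧸ m) := Ideal.Quotient.field m
  let x : B →ₐ[k] (B ⧸ m) := Ideal.Quotient.mkₐ k m
  let idf : (B ⧸ m) ⊗[k] B →ₐ[k] (B ⧸ m) ⊗[k] A :=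
    Algebra.TensorProduct.map (AlgHom.id k (B ⧸ m)) (f : B →ₐ[k] A)
  let t : B →ₐ[k] (B ⧸ m) ⊗[k] A := idf.comp (transl x)
  have ht : Function.Injective t := by
    have h1 : Function.Injective (transl x) := (transl_faithfullyFlat x).injective
    have h2 : Function.Injective idf := by
      have : (idf : (B ⧸ m) ⊗[k] B → (B ⧸ m) ⊗[k] A) =
          LinearMap.lTensor (B ⧸ m) (f : B →ₐ[k] A).toLinearMap := by
        ext z
        induction z using TensorProduct.induction_on with
        | zero => simp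
        | tmul a b => simp [idf]
        | add z w hz hw => simp only [map_add, hz, hw]
      rw [this]
      exact Module.Flat.lTensor_preserves_injective_linearMap _ hf
    exact h2.comp h1
  haveI : Nontrivial B := ⟨⟨0, 1, fun h => hm.ne_top (by
    rw [Ideal.eq_top_iff_one, ← h]; exact zero_mem m)⟩⟩
  obtain ⟨Ω, _, _, _, u, v, huv⟩ := exists_common (f : B →ₐ[k] A) t hf ht
  let ι₁ : (B ⧸ m) →ₐ[k] (B ⧸ m) ⊗[k] A := Algebra.TensorProduct.includeLeft (S := k)
  let ι₂ : A →ₐ[k] (B ⧸ m) ⊗[k] A := Algebra.TensorProduct.includeRight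
  let ψ : A →ₐ[k] Ω := cmul u (cinv (v.comp ι₂))
  have ht_eq : t = cmul (ι₁.comp x) (ι₂.comp (f : B →ₐ[k] A)) := by
    change idf.comp (cmul (ptL x) Algebra.TensorProduct.includeRight) = _
    rw [comp_cmul]
    congr 1
    ext b; simp [idf, ptL, ι₁]
  have hψ : ψ.comp (f : B →ₐ[k] A) = (v.comp ι₁).comp x := by
    change (cmul u (cinv (v.comp ι₂))).comp (f : B →ₐ[k] A) = _
    rw [cmul_comp_bialgHom, cinv_comp_bialgHom, huv, ht_eq, comp_cmul, AlgHom.comp_assoc,
      ← AlgHom.comp_assoc v ι₂, cmul_cinv_cancel_right, AlgHom.comp_assoc]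
  have hle : m.map (f : B →+* A) ≤ RingHom.ker (ψ : A →+* Ω) := by
    rw [Ideal.map_le_iff_le_comap]
    intro b hb
    rw [Ideal.mem_comap, RingHom.mem_ker]
    have h1 := congrArg (fun H : B →ₐ[k] Ω => H b) hψ
    simp only [AlgHom.coe_comp, Function.comp_apply] at h1
    have hx : x b = 0 := by
      change Ideal.Quotient.mk m b = 0
      exact Ideal.Quotient.eq_zero_iff_mem.mpr hb
    rw [hx, map_zero, map_zero] at h1
    exact h1
  have h1 : (1 : A) ∈ RingHom.ker (ψ : A →+* Ω) := hle (htop ▸ Submodule.mem_top)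
  rw [RingHom.mem_ker] at h1
  have : (1 : Ω) = 0 := by
    rw [← h1]; exact (map_one ψ).symm
  exact one_ne_zero this

end Surj

end Groth.Agent.H9.FF
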