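import Mathlib
import Groth.Agent.Lib.Helper9.FF.LocalFree
import Groth.Agent.Lib.Helper9.FF.Shear
import Groth.Agent.Lib.Helper9.FF.Galois
import Groth.Agent.Lib.Helper9.FF.Surj
import Groth.Agent.Lib.Helper9.FF.FGSub

/-!
# A commutative Hopf algebra over a field is faithfully flat over every sub-Hopf-algebra

Main results:
* `flat_of_injective`, `faithfullyFlat_of_injective`: for an injective bialgebra map `f : B →ₐc[k] A`
  of commutative Hopf algebras over a field `k`, `A` is (faithfully) flat over `B`.
* `faithfullyFlat_of_isHopfSub`: `A` is faithfully flat over a sub-Hopf-algebra `B`.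
-/

namespace Groth.Agent.H9.FF

open TensorProduct

universe u v w

set_option linter.style.haveILetI false

section LocalStep

variable {k : Type u} {A : Type v} {B : Type w} [Field k] [CommRing A] [HopfAlgebra k A]
  [CommRing B] [HopfAlgebra k B] [Algebra B A] [IsScalarTower k B A]
  (f : B →ₐc[k] A) (hf : ∀ b, algebraMap B A b = f b)

include hf in
/-- If `B → A` is injective and some flat local `B`-algebra `R` has nilpotent maximal ideal, then `A`
is flat over `B`. -/
theorem flat_of_local (hinj : Function.Injective f) (R : Type*) [CommRing R] [Algebra B R]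
    [Algebra k R] [IsScalarTower k B R] [IsLocalRing R] [Module.Flat B R]
    (hnil : IsNilpotent (IsLocalRing.maximalIdeal R)) :
    (f : B →ₐ[k] A).toRingHom.Flat := by
  let T := R ⊗[B] A
  letI algAT : Algebra A T := (Algebra.TensorProduct.includeRight : A →ₐ[B] R ⊗[B] A).toRingHom.toAlgebra
  have hAT : ∀ a : A, algebraMap A T a = (1 : R) ⊗ₜ[B] a := fun a => rfl
  haveI towerBAT : IsScalarTower B A T := by
    apply IsScalarTower.of_algebraMap_eq
    intro b
    rw [hAT, Algebra.TensorProduct.algebraMap_apply, Algebra.algebraMap_eq_smul_one,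
      Algebra.algebraMap_eq_smul_one (A := A), TensorProduct.smul_tmul]
  have hinjBA : Function.Injective (algebraMap B A) := by
    intro x y hxy
    rw [hf, hf] at hxy
    exact hinj hxy
  have hinjRT : Function.Injective (algebraMap R T) :=
    Algebra.TensorProduct.includeLeft_injective (S := R) hinjBA
  haveI : Nontrivial T := hinjRT.nontrivial
  -- flatness of T ⊗[R] T over T
  haveI h0 : Module.Flat A (A ⊗[B] A) := flat_tensorB f hf
  haveI h1 : Module.Flat T (T ⊗[A] (A ⊗[B] A)) := inferInstance
  haveI h2 : Module.Flat T (T ⊗[B] A) :=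
    Module.Flat.of_linearEquiv (AlgebraTensorModule.cancelBaseChange B A T T A).symm
  haveI h3 : Module.Flat T (T ⊗[R] T) :=
    Module.Flat.of_linearEquiv (AlgebraTensorModule.cancelBaseChange B R T T A)
  haveI h4 : Module.Free R T := free_of_flat_tensor_self hnil hinjRT
  haveI h5 : Module.Flat B T := Module.Flat.trans B R T
  let τ : A →ₐ[k] T :=
    (Algebra.TensorProduct.includeRight : A →ₐ[B] R ⊗[B] A).restrictScalars k
  have hτ : (τ.comp (f : B →ₐ[k] A)).toRingHom = algebraMap B T := by
    ext b
    change (1 : R) ⊗ₜ[B] (f b) = algebraMap B T b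
    rw [← hf, Algebra.TensorProduct.algebraMap_apply, Algebra.algebraMap_eq_smul_one (A := R),
      Algebra.algebraMap_eq_smul_one (A := A), TensorProduct.smul_tmul]
  exact flat_of_exists_flat f τ (hτ ▸ RingHom.flat_algebraMap_iff.mpr h5)

end LocalStep

section Noeth

variable {k : Type u} {A : Type v} {B : Type w} [Field k] [CommRing A] [HopfAlgebra k A]
  [CommRing B] [HopfAlgebra k B] (f : B →ₐc[k] A)

/-- the Noetherian case -/
theorem flat_of_injective_of_isNoetherianRing [IsNoetherianRing B] (hinj : Function.Injective f) :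
    (f : B →ₐ[k] A).toRingHom.Flat := by
  letI : Algebra B A := (f : B →ₐ[k] A).toRingHom.toAlgebra
  haveI : IsScalarTower k B A :=
    IsScalarTower.of_algebraMap_eq (fun r => ((f : B →ₐ[k] A).commutes r).symm)
  have hf : ∀ b, algebraMap B A b = f b := fun b => rfl
  haveI : Nontrivial B := (Bialgebra.counitAlgHom k B).toRingHom.domain_nontrivial
  obtain ⟨m, hm⟩ := Ideal.exists_maximal B
  obtain ⟨Q, hQ, -⟩ := Ideal.exists_minimalPrimes_le (show (⊥ : Ideal B) ≤ m from bot_le)
  have hQ' : Q ∈ minimalPrimes B := hQ
  haveI : Q.IsPrime := hQ.1.1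
  haveI : Ring.KrullDimLE 0 (Localization.AtPrime Q) := .of_isLocalization _ hQ' _
  haveI : IsNoetherianRing (Localization.AtPrime Q) :=
    IsLocalization.isNoetherianRing Q.primeCompl _ inferInstance
  have hnil : IsNilpotent (IsLocalRing.maximalIdeal (Localization.AtPrime Q)) := by
    rw [← Ring.KrullDimLE.nilradical_eq_maximalIdeal]
    exact IsNoetherianRing.isNilpotent_nilradical _
  exact flat_of_local f hf hinj (Localization.AtPrime Q) hnil

end Noeth

section General

variable {k : Type u} {A : Type v} {B : Type w} [Field k] [CommRing A] [HopfAlgebra k A]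
  [CommRing B] [HopfAlgebra k B] (f : B →ₐc[k] A)

/-- **Flatness**: a commutative Hopf algebra over a field is flat over any commutative Hopf algebra
mapping injectively into it. -/
theorem flat_of_injective (hinj : Function.Injective f) : (f : B →ₐ[k] A).toRingHom.Flat := by
  classical
  letI : Algebra B A := (f : B →ₐ[k] A).toRingHom.toAlgebra
  have hf : ∀ b, algebraMap B A b = f b := fun b => rfl
  rw [RingHom.Flat]
  change Module.Flat B A
  rw [Module.Flat.iff_forall_isTrivialRelation]
  intro l g x hgx
  obtain ⟨B', hB', hfg, hsub⟩ := exists_fg_isHopfSub (k := k) (A := B) (Finset.univ.image g)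
  letI := IsHopfSub.hopfAlgebra hB'
  let f' : B' →ₐc[k] A := f.comp (IsHopfSub.incl hB')
  have hinj' : Function.Injective f' := hinj.comp Subtype.val_injective
  haveI : Algebra.FiniteType k B' := (Subalgebra.fg_iff_finiteType B').mp hfg
  haveI : IsNoetherianRing B' := Algebra.FiniteType.isNoetherianRing k B'
  have hflat := flat_of_injective_of_isNoetherianRing f' hinj'
  letI : Algebra B' A := (f' : B' →ₐ[k] A).toRingHom.toAlgebra
  have hflat' : Module.Flat B' A := hflat
  have hgB : ∀ i, g i ∈ B' := fun i => hsub (by simp)
  let g' : Fin l → B' := fun i => ⟨g i, hgB i⟩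
  have hsmul : ∀ (b : B') (a : A), b • a = (b : B) • a := fun b a => rfl
  have hrel : ∑ i, g' i • x i = 0 := by
    simpa [hsmul, g'] using hgx
  obtain ⟨n, a, y, hy, ha⟩ := Module.Flat.isTrivialRelation_of_sum_smul_eq_zero hrel
  refine ⟨n, fun i j => (a i j : B), y, fun i => ?_, fun j => ?_⟩
  · rw [hy i]
    rfl
  · have := congrArg (fun b : B' => (b : B)) (ha j)
    simpa [g'] using this

/-- **Faithful flatness** of a commutative Hopf algebra over a field over any commutative Hopf
algebra mapping injectively into it. -/
theorem faithfullyFlat_of_injective (hinj : Function.Injective f) :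
    (f : B →ₐ[k] A).toRingHom.FaithfullyFlat := by
  have hflat := flat_of_injective f hinj
  letI : Algebra B A := (f : B →ₐ[k] A).toRingHom.toAlgebra
  rw [RingHom.FaithfullyFlat]
  change Module.FaithfullyFlat B A
  haveI : Module.Flat B A := hflat
  refine ⟨fun m hm => ?_⟩
  rw [Ideal.smul_top_eq_map]
  intro h
  have h1 : m.map (algebraMap B A) = ⊤ := by
    apply Submodule.restrictScalars_injective B
    rw [h]
    rfl
  exact map_ne_top f hinj m h1

end General

section Sub

variable {k : Type u} {A : Type v} [Field k] [CommRing A] [HopfAlgebra k A]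

/-- a commutative Hopf algebra over a field is faithfully flat over every sub-Hopf-algebra -/
theorem faithfullyFlat_of_isHopfSub (B : Subalgebra k A) (hB : IsHopfSub k A B) :
    Module.FaithfullyFlat B A := by
  letI := IsHopfSub.hopfAlgebra hB
  have h := faithfullyFlat_of_injective (IsHopfSub.incl hB) Subtype.val_injective
  have h2 : ((IsHopfSub.incl hB : B →ₐc[k] A) : B →ₐ[k] A).toRingHom = algebraMap B A := rfl
  rw [h2] at h
  exact RingHom.faithfullyFlat_algebraMap_iff.mp h

end Sub

end Groth.Agent.H9.FF
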