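import Mathlib
import Groth.Agent.Lib.Helper9.FF.Main

/-!
# Applications of faithful flatness of Hopf algebras
-/

namespace Groth.Agent.H9.FF

open TensorProduct

universe u v w

set_option linter.style.haveILetI false

section Range

variable {k : Type u} {A : Type v} {B : Type w} [Field k] [CommRing A] [HopfAlgebra k A]
  [CommRing B] [HopfAlgebra k B] (f : A →ₐc[k] B)

/-- the range of a bialgebra map is a sub-Hopf-algebra -/
theorem isHopfSub_range : IsHopfSub k B (f : A →ₐ[k] B).range := by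
  constructor
  · rintro _ ⟨a, rfl⟩
    have h1 : Coalgebra.comul (R := k) (A := B) (f a) =
        TensorProduct.map (f : A →ₗ[k] B) (f : A →ₗ[k] B) (Coalgebra.comul (R := k) a) :=
      (CoalgHomClass.map_comp_comul_apply f a).symm
    have h2 : (f : A →ₗ[k] B) = (f : A →ₐ[k] B).range.val.toLinearMap ∘ₗ
        (f : A →ₐ[k] B).rangeRestrict.toLinearMap := by
      ext a; rfl
    change Coalgebra.comul (R := k) (A := B) (f a) ∈ _
    rw [h1, h2, TensorProduct.map_comp]
    exact ⟨_, rfl⟩
  · rintro _ ⟨a, rfl⟩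
    refine ⟨HopfAlgebra.antipode k a, ?_⟩
    exact Conv.bialgHom_antipode f a

theorem faithfullyFlat_range : Module.FaithfullyFlat (f : A →ₐ[k] B).range B :=
  faithfullyFlat_of_isHopfSub _ (isHopfSub_range f)

end Range

section Descent

variable {B : Type u} {A : Type v} [CommRing B] [CommRing A] [Algebra B A]

/-- faithfully flat descent for elements: `a ⊗ 1 = 1 ⊗ a` in `A ⊗[B] A` implies `a ∈ B` -/
theorem mem_range_of_tmul_eq [Module.FaithfullyFlat B A] (a : A)
    (h : a ⊗ₜ[B] (1 : A) = (1 : A) ⊗ₜ[B] a) : a ∈ (algebraMap B A).range := by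
  let N : Submodule B A := LinearMap.range (Algebra.linearMap B A)
  have h1 : (1 : A) ⊗ₜ[B] (N.mkQ a) = 0 := by
    have := congrArg (LinearMap.lTensor A N.mkQ) h
    simp only [LinearMap.lTensor_tmul] at this
    rw [← this]
    have h1N : N.mkQ (1 : A) = 0 := by
      rw [Submodule.mkQ_apply, Submodule.Quotient.mk_eq_zero]
      exact ⟨1, by simp⟩
    rw [h1N, TensorProduct.tmul_zero]
  have h2 : N.mkQ a = 0 :=
    Module.FaithfullyFlat.tensorProduct_mk_injective (A := B) (B := A) (A ⧸ N)
      (h1.trans (TensorProduct.tmul_zero _ _).symm)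
  rw [Submodule.mkQ_apply, Submodule.Quotient.mk_eq_zero] at h2
  obtain ⟨b, hb⟩ := h2
  exact ⟨b, hb⟩

end Descent

section Epi

variable {k : Type u} {A' : Type u} {A : Type u} [Field k] [CommRing A'] [HopfAlgebra k A']
  [CommRing A] [HopfAlgebra k A] (φ : A' →ₐc[k] A)

/-- an epimorphic bialgebra map of commutative Hopf algebras over a field is surjective -/
theorem surjective_of_epi
    (hepi : ∀ (R : Type u) [CommRing R] (f g : A →+* R),
      f.comp (φ : A' →+* A) = g.comp (φ : A' →+* A) → f = g) :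
    Function.Surjective φ := by
  let B := (φ : A' →ₐ[k] A).range
  haveI : Module.FaithfullyFlat B A := faithfullyFlat_range φ
  have key := hepi (A ⊗[B] A)
    (Algebra.TensorProduct.includeLeft (R := B) (S := B) (A := A) (B := A)).toRingHom
    (Algebra.TensorProduct.includeRight (R := B) (A := A) (B := A)).toRingHom (by
      ext a'
      change (φ a') ⊗ₜ[B] (1 : A) = (1 : A) ⊗ₜ[B] (φ a')
      have hb : φ a' ∈ B := ⟨a', rfl⟩
      have : φ a' = (⟨φ a', hb⟩ : B) • (1 : A) := by
        rw [Algebra.smul_def, mul_one]; rfl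
      rw [this, TensorProduct.smul_tmul])
  intro a
  have h := congrArg (fun F : A →+* A ⊗[B] A => F a) key
  have h' : a ⊗ₜ[B] (1 : A) = (1 : A) ⊗ₜ[B] a := h
  obtain ⟨b, hb⟩ := mem_range_of_tmul_eq a h'
  obtain ⟨a', ha'⟩ := b.2
  exact ⟨a', ha'.trans hb⟩

end Epi

section Points

variable {k : Type u} {A : Type v} {B : Type v} [Field k] [CommRing A] [CommRing B]
  [HopfAlgebra k A] [HopfAlgebra k B] [Algebra.FiniteType k A]
  (ψ : B →ₐc[k] A)

/-- points with values in an algebraically closed field lift along an injective bialgebra map -/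
theorem exists_lift_point (hψ : Function.Injective ψ) (k' : Type w) [Field k'] [IsAlgClosed k']
    [Algebra k k'] (q : B →ₐ[k] k') : ∃ g : A →ₐ[k] k', g.comp (ψ : B →ₐ[k] A) = q := by
  letI : Algebra B A := (ψ : B →ₐ[k] A).toRingHom.toAlgebra
  haveI : IsScalarTower k B A :=
    IsScalarTower.of_algebraMap_eq (fun r => ((ψ : B →ₐ[k] A).commutes r).symm)
  haveI : Module.FaithfullyFlat B A := faithfullyFlat_of_injective ψ hψ
  letI : Algebra B k' := q.toRingHom.toAlgebra
  haveI : IsScalarTower k B k' :=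
    IsScalarTower.of_algebraMap_eq (fun r => (q.commutes r).symm)
  haveI : Algebra.FiniteType B A := Algebra.FiniteType.of_restrictScalars_finiteType k B A
  haveI : Algebra.FiniteType k' (k' ⊗[B] A) := inferInstance
  haveI : Nontrivial (k' ⊗[B] A) := inferInstance
  obtain ⟨M, hM⟩ := Ideal.exists_maximal (k' ⊗[B] A)
  letI : Field ((k' ⊗[B] A) ⧸ M) := Ideal.Quotient.field M
  haveI : Algebra.FiniteType k' ((k' ⊗[B] A) ⧸ M) :=
    Algebra.FiniteType.of_surjective (Ideal.Quotient.mkₐ k' M) Ideal.Quotient.mk_surjective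
  haveI : Module.Finite k' ((k' ⊗[B] A) ⧸ M) := finite_of_finite_type_of_isJacobsonRing _ _
  have hbij : Function.Bijective (algebraMap k' ((k' ⊗[B] A) ⧸ M)) :=
    IsAlgClosed.algebraMap_bijective_of_isIntegral
  let e : k' ≃ₐ[k'] ((k' ⊗[B] A) ⧸ M) := AlgEquiv.ofBijective (Algebra.ofId _ _) hbij
  let p : (k' ⊗[B] A) →ₐ[k'] k' := (e.symm : _ →ₐ[k'] k').comp (Ideal.Quotient.mkₐ k' M)
  let inc : A →ₐ[B] k' ⊗[B] A := Algebra.TensorProduct.includeRight
  let g0 : A →+* k' := (p : (k' ⊗[B] A) →+* k').comp (inc : A →+* k' ⊗[B] A)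
  have hg0 : ∀ b : B, g0 (ψ b) = q b := by
    intro b
    change p ((1 : k') ⊗ₜ[B] (ψ b)) = q b
    have h1 : ψ b = b • (1 : A) := by
      rw [Algebra.smul_def, mul_one]; rfl
    have h2 : (b • (1 : k')) = q b := by
      rw [Algebra.smul_def, mul_one]; rfl
    rw [h1, ← TensorProduct.smul_tmul, h2]
    have h3 : (q b) ⊗ₜ[B] (1 : A) = algebraMap k' (k' ⊗[B] A) (q b) := by
      rw [Algebra.TensorProduct.algebraMap_apply]
      rfl
    rw [h3, AlgHom.commutes]
    rfl
  refine ⟨{ g0 with commutes' := fun r => ?_ }, ?_⟩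
  · have := hg0 (algebraMap k B r)
    rw [AlgHom.commutes] at this
    change g0 (algebraMap k A r) = _
    have h4 : ψ (algebraMap k B r) = algebraMap k A r := (ψ : B →ₐ[k] A).commutes r
    rw [← h4, hg0, AlgHom.commutes]
  · ext b
    exact hg0 b

end Points

end Groth.Agent.H9.FF
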